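import Groth.Agent.BBLib.SmoothZero

/-!
Homogeneous generators of a graded algebra lifting a free cotangent module.
-/

universe u

open MvPolynomial DirectSum

namespace Groth.Agent.BBLib

variable {A B : Type u} [CommRing A] [CommRing B] [Algebra A B] (𝒜 : ℕ → Submodule A B) [GradedAlgebra 𝒜]

set_option quotPrecheck false
local notation "Bp" => (HomogeneousIdeal.irrelevant 𝒜).toIdeal

lemma mem_irr {b : B} : b ∈ Bp ↔ GradedAlgebra.proj 𝒜 0 b = 0 :=
  HomogeneousIdeal.mem_irrelevant_iff 𝒜 b

lemma proj_proj (i j : ℕ) (b : B) :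
    GradedAlgebra.proj 𝒜 i (GradedAlgebra.proj 𝒜 j b) = if j = i then GradedAlgebra.proj 𝒜 j b else 0 := by
  simp only [GradedAlgebra.proj_apply]
  split_ifs with h
  · subst h; exact decompose_of_mem_same 𝒜 (SetLike.coe_mem _)
  · exact decompose_of_mem_ne 𝒜 (SetLike.coe_mem _) h

lemma proj_mem_irr {b : B} (hb : b ∈ Bp) (d : ℕ) : GradedAlgebra.proj 𝒜 d b ∈ Bp := by
  rw [mem_irr, proj_proj]
  rw [mem_irr] at hb
  split_ifs with h
  · subst h; exact hb
  · rfl

lemma proj_mem_sq {b : B} (hb : b ∈ Bp ^ 2) (d : ℕ) : GradedAlgebra.proj 𝒜 d b ∈ Bp ^ 2 := by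
  have h : (Bp * Bp).IsHomogeneous 𝒜 :=
    (HomogeneousIdeal.irrelevant 𝒜).isHomogeneous.mul (HomogeneousIdeal.irrelevant 𝒜).isHomogeneous
  rw [pow_two] at hb ⊢
  exact h d hb

theorem exists_generators
    (h0 : ∀ b : B, b ∈ 𝒜 0 ↔ b ∈ Set.range (algebraMap A B))
    {σ : Type} [Fintype σ] (e : Module.Basis σ A (Bp).Cotangent) :
    ∃ x : σ → B, (∀ i, x i ∈ Bp) ∧ Function.Surjective (aeval x : MvPolynomial σ A →ₐ[A] B) ∧
      ∀ c : σ → A, ∑ i, c i • x i ∈ Bp ^ 2 → c = 0 := by
  classical
  let Ip : Submodule A B := Submodule.restrictScalars A Bp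
  let π : Ip →ₗ[A] (Bp).Cotangent := (Bp).toCotangent.restrictScalars A
  have hπ : ∀ b : Ip, π b = 0 ↔ (b : B) ∈ Bp ^ 2 := fun b => (Bp).toCotangent_eq_zero b
  have hπs : Function.Surjective π := (Bp).toCotangent_surjective
  let P : ℕ → (Ip →ₗ[A] Ip) := fun d => (GradedAlgebra.proj 𝒜 d).restrict fun b hb => proj_mem_irr 𝒜 hb d
  have hP : ∀ d (b : Ip), (P d b : B) = GradedAlgebra.proj 𝒜 d b := fun d b => rfl
  choose lift hlift using fun i => hπs (e i)
  let τ : (Bp).Cotangent →ₗ[A] Ip := e.constr A lift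
  have hτ : ∀ c, π (τ c) = c := by
    have : π ∘ₗ τ = LinearMap.id := e.ext fun i => (congrArg π (e.constr_basis A lift i)).trans (hlift i)
    exact fun c => LinearMap.congr_fun this c
  let E : ℕ → ((Bp).Cotangent →ₗ[A] (Bp).Cotangent) := fun d => π ∘ₗ P d ∘ₗ τ
  have hE : ∀ d b, E d (π b) = π (P d b) := fun d b => by
    rw [← sub_eq_zero]
    have h1 : E d (π b) - π (P d b) = π (P d (τ (π b) - b)) :=
      (map_sub π _ _).symm.trans (congrArg π (map_sub (P d) _ _).symm)
    rw [h1, hπ, hP]
    exact proj_mem_sq 𝒜 ((hπ _).1 (by rw [map_sub, hτ, sub_self])) d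
  let S : Finset ℕ := Finset.univ.biUnion fun i => (decompose 𝒜 ((lift i : Ip) : B)).support
  have hS : ∀ d ∉ S, ∀ c, E d c = 0 := fun d hd c => by
    have : E d = 0 := e.ext fun i => by
      have h1 : P d (lift i) = 0 := Subtype.ext (by
        rw [hP, GradedAlgebra.proj_apply]
        by_contra hne
        refine hd (Finset.mem_biUnion.2 ⟨i, Finset.mem_univ _, DFinsupp.mem_support_iff.2 fun h => hne ?_⟩)
        rw [h]; rfl)
      exact (congrArg (fun z => π (P d z)) (e.constr_basis A lift i)).trans ((congrArg π h1).trans (map_zero π))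
    rw [this]; rfl
  let s : (Bp).Cotangent →ₗ[A] Ip := ∑ d ∈ S, P d ∘ₗ τ ∘ₗ E d
  -- homogeneous lifts of homogeneous classes
  have hs_hom : ∀ d, ∀ b : Ip, (b : B) ∈ 𝒜 d → (s (π b) : B) ∈ 𝒜 d ∧ π (s (π b)) = π b := by
    intro d b hb
    have hEe : ∀ j, E j (π b) = if d = j then π b else 0 := fun j => by
      rw [hE]
      split_ifs with h
      · subst h
        congr 1
        exact Subtype.ext (decompose_of_mem_same 𝒜 hb)
      · rw [show P j b = 0 from Subtype.ext (decompose_of_mem_ne 𝒜 hb h), map_zero]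
    have hs' : s (π b) = if d ∈ S then P d (τ (π b)) else 0 := by
      simp only [s, LinearMap.sum_apply, LinearMap.comp_apply, hEe]
      rw [← Finset.sum_ite_eq S d (fun j => P j (τ (π b)))]
      refine Finset.sum_congr rfl fun j _ => ?_
      split_ifs with h
      · rfl
      · exact (congrArg (P j) (map_zero τ)).trans (map_zero (P j))
    rw [hs']
    split_ifs with hd
    · refine ⟨?_, ?_⟩
      · rw [hP, GradedAlgebra.proj_apply]; exact SetLike.coe_mem _
      · rw [← hE, hτ, hEe, if_pos rfl]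
    · have h1 : π b = 0 := by
        have := hS d hd (π b)
        rwa [hEe, if_pos rfl] at this
      rw [h1]
      exact ⟨zero_mem _, map_zero π⟩
  have hs : ∀ c, π (s c) = c := by
    intro c
    obtain ⟨⟨b, hb⟩, rfl⟩ := hπs c
    have hsum : (⟨b, hb⟩ : Ip) = ∑ d ∈ (decompose 𝒜 b).support, P d ⟨b, hb⟩ := by
      apply Subtype.ext
      rw [AddSubmonoidClass.coe_finsetSum]
      exact (sum_support_decompose 𝒜 b).symm
    rw [hsum, map_sum, map_sum, map_sum]
    refine Finset.sum_congr rfl fun d _ => (hs_hom d _ ?_).2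
    rw [hP, GradedAlgebra.proj_apply]
    exact SetLike.coe_mem _
  refine ⟨fun i => (s (e i) : B), fun i => (s (e i)).2, ?_, fun c hc => ?_⟩
  · set φ : MvPolynomial σ A →ₐ[A] B := aeval fun i => (s (e i) : B) with hφ
    have hsrange : ∀ c, (s c : B) ∈ φ.range := fun c => by
      refine ⟨∑ i, e.repr c i • MvPolynomial.X i, ?_⟩
      change φ _ = _
      conv_rhs => rw [← e.sum_repr c]
      rw [map_sum s, AddSubmonoidClass.coe_finsetSum, map_sum]
      refine Finset.sum_congr rfl fun i _ => ?_
      rw [map_smul s, map_smul, hφ, aeval_X]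
      rfl
    have key : ∀ d, ∀ b ∈ 𝒜 d, b ∈ φ.range := by
      intro d
      induction d using Nat.strong_induction_on with
      | _ d ih =>
        intro b hb
        rcases Nat.eq_zero_or_pos d with rfl | hd
        · obtain ⟨a, rfl⟩ := (h0 b).1 hb
          exact φ.range.algebraMap_mem a
        have hbI : b ∈ Bp := by
          rw [mem_irr, GradedAlgebra.proj_apply, decompose_of_mem_ne 𝒜 hb hd.ne']
        obtain ⟨hsd, hsπ⟩ := hs_hom d ⟨b, hbI⟩ hb
        have hz : b - (s (π ⟨b, hbI⟩) : B) ∈ Bp * Bp := by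
          rw [← pow_two]
          exact (hπ (⟨b, hbI⟩ - s (π ⟨b, hbI⟩))).1 (by rw [map_sub, hsπ, sub_self])
        have hred : ∀ z ∈ Bp * Bp, GradedAlgebra.proj 𝒜 d z ∈ φ.range := by
          intro z hz
          refine Submodule.mul_induction_on hz (fun u hu v hv => ?_) fun u v hu hv => by
            rw [map_add]; exact φ.range.add_mem hu hv
          rw [← sum_support_decompose 𝒜 u, ← sum_support_decompose 𝒜 v, Finset.sum_mul_sum, map_sum]
          refine φ.range.toSubmodule.sum_mem fun i _ => ?_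
          rw [map_sum]
          refine φ.range.toSubmodule.sum_mem fun j _ => ?_
          have hm : (decompose 𝒜 u i : B) * (decompose 𝒜 v j : B) ∈ 𝒜 (i + j) :=
            SetLike.mul_mem_graded (SetLike.coe_mem _) (SetLike.coe_mem _)
          rw [GradedAlgebra.proj_apply]
          by_cases hij : i + j = d
          · subst hij
            rw [decompose_of_mem_same 𝒜 hm]
            rcases Nat.eq_zero_or_pos i with rfl | hi
            · rw [show (decompose 𝒜 u 0 : B) = 0 from (GradedAlgebra.proj_apply 𝒜 0 u).symm.trans ((mem_irr 𝒜).1 hu), zero_mul]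
              exact φ.range.zero_mem
            rcases Nat.eq_zero_or_pos j with rfl | hj
            · rw [show (decompose 𝒜 v 0 : B) = 0 from (GradedAlgebra.proj_apply 𝒜 0 v).symm.trans ((mem_irr 𝒜).1 hv), mul_zero]
              exact φ.range.zero_mem
            exact φ.range.mul_mem (ih i (by omega) _ (SetLike.coe_mem _)) (ih j (by omega) _ (SetLike.coe_mem _))
          · rw [decompose_of_mem_ne 𝒜 hm hij]
            exact φ.range.zero_mem
        have := hred _ hz
        rw [GradedAlgebra.proj_apply, decompose_of_mem_same 𝒜 (sub_mem hb hsd)] at this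
        simpa using φ.range.add_mem this (hsrange (π ⟨b, hbI⟩))
    intro b
    have hb : b ∈ φ.range := by
      rw [← sum_support_decompose 𝒜 b]
      exact φ.range.toSubmodule.sum_mem fun d _ => key d _ (SetLike.coe_mem _)
    exact hb
  · have h1 : π (∑ i, c i • s (e i)) = 0 := (hπ _).2 (by simpa [AddSubmonoidClass.coe_finsetSum] using hc)
    simp only [map_sum, map_smul, hs] at h1
    exact funext fun i => Fintype.linearIndependent_iff.1 e.linearIndependent c h1 i

end Groth.Agent.BBLib
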