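import Mathlib.RingTheory.Smooth.Locus
import Mathlib.RingTheory.MvPolynomial.Ideal
import Mathlib.RingTheory.Finiteness.Nakayama
import Mathlib.RingTheory.MvPowerSeries.Inverse
import Mathlib.RingTheory.Ideal.Cotangent
import Mathlib.RingTheory.GradedAlgebra.Homogeneous.Ideal
import Mathlib.RingTheory.Polynomial.Basic
import Mathlib.LinearAlgebra.FreeModule.Finite.Basic
import Mathlib.Tactic

/-!
A quotient of a polynomial ring which is smooth along the origin and whose linear part is that of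
the polynomial ring is the polynomial ring.
-/

universe u

open MvPolynomial

namespace Groth.Agent.BBLib

variable {A : Type u} [CommRing A] {σ : Type*}

lemma sub_constantCoeff_mem (f : MvPolynomial σ A) :
    f - C (constantCoeff f) ∈ idealOfVars σ A := by
  have : idealOfVars σ A = Ideal.span (MvPolynomial.X '' (Set.univ : Set σ)) := by rw [Set.image_univ]
  rw [this, mem_ideal_span_X_image]
  intro m hm
  by_contra hne
  push Not at hne
  obtain rfl : m = 0 := Finsupp.ext fun i => hne i trivial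
  simp [mem_support_iff, constantCoeff_eq] at hm

lemma constantCoeff_eq_zero_of_mem {f : MvPolynomial σ A} (hf : f ∈ idealOfVars σ A) : constantCoeff f = 0 :=
  RingHom.mem_ker.1 ((show idealOfVars σ A ≤ RingHom.ker (constantCoeff : MvPolynomial σ A →+* A) from
    Ideal.span_le.2 (by rintro _ ⟨i, rfl⟩; exact constantCoeff_X _ i)) hf)

lemma eq_zero_of_mul_eq_zero [Finite σ] {e f : MvPolynomial σ A} (he : e - 1 ∈ idealOfVars σ A)
    (h : e * f = 0) : f = 0 := by
  have hu : IsUnit (e : MvPowerSeries σ A) := MvPowerSeries.isUnit_iff_constantCoeff.2 (by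
    have h1 : constantCoeff e = 1 := by
      have := constantCoeff_eq_zero_of_mem he
      rwa [map_sub, map_one, sub_eq_zero] at this
    have : MvPowerSeries.constantCoeff (e : MvPowerSeries σ A) = constantCoeff e := by
      rw [← MvPowerSeries.coeff_zero_eq_constantCoeff_apply, MvPolynomial.coeff_coe, constantCoeff_eq]
    rw [this, h1]; exact isUnit_one)
  refine MvPolynomial.coe_injective σ A ?_
  rw [MvPolynomial.coe_zero]
  refine hu.mul_right_eq_zero.1 ?_
  rw [← MvPolynomial.coe_mul, h, MvPolynomial.coe_zero]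

theorem aeval_injective_of_smooth [IsNoetherianRing A] [Finite σ] [Fintype σ] {B : Type u} [CommRing B] [Algebra A B]
    (x : σ → B) (hsurj : Function.Surjective (aeval x : MvPolynomial σ A →ₐ[A] B))
    (I : Ideal B) (hx : ∀ i, x i ∈ I) (hI : ∀ a : A, algebraMap A B a ∈ I → a = 0)
    (hlin : ∀ c : σ → A, ∑ i, c i • x i ∈ I ^ 2 → c = 0)
    (hsm : ∀ (P : Ideal B) [P.IsPrime], I ≤ P → Algebra.IsSmoothAt A P) :
    Function.Injective (aeval x : MvPolynomial σ A →ₐ[A] B) := by
  set φ : MvPolynomial σ A →ₐ[A] B := aeval x with hφ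
  set X₀ := idealOfVars σ A
  set K := RingHom.ker φ.toRingHom
  have hXI : ∀ {f}, f ∈ X₀ → φ f ∈ I := fun {f} hf =>
    (Ideal.span_le.2 (by rintro _ ⟨i, rfl⟩; simpa [hφ] using hx i) : X₀ ≤ I.comap φ.toRingHom) hf
  have hφC : ∀ f, φ f - algebraMap A B (constantCoeff f) ∈ I := fun f => by
    have := hXI (sub_constantCoeff_mem f)
    rwa [map_sub, hφ, aeval_C] at this
  -- no constant and linear terms
  have hK2 : K ≤ X₀ * X₀ := by
    intro f hf
    have hf0 : φ f = 0 := hf
    have hc : constantCoeff f = 0 := hI _ (by simpa [hf0] using I.neg_mem (hφC f))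
    have hfX : f ∈ X₀ := by simpa [hc] using sub_constantCoeff_mem f
    obtain ⟨c, hc'⟩ := Ideal.mem_span_range_iff_exists_fun.1 hfX
    have h1 : ∑ i, constantCoeff (c i) • x i ∈ I ^ 2 := by
      have h2 : ∑ i, constantCoeff (c i) • x i = φ f - ∑ i, (φ (c i) - algebraMap A B (constantCoeff (c i))) * x i := by
        rw [← hc', map_sum, ← Finset.sum_sub_distrib]
        refine Finset.sum_congr rfl fun i _ => ?_
        rw [map_mul, hφ, aeval_X, Algebra.smul_def]
        ring
      rw [h2, hf0, zero_sub]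
      refine neg_mem (Ideal.sum_mem _ fun i _ => ?_)
      rw [pow_two]
      exact Ideal.mul_mem_mul (hφC _) (hx i)
    have h3 := hlin _ h1
    rw [← hc']
    refine Ideal.sum_mem _ fun i _ => Ideal.mul_mem_mul ?_ (Ideal.subset_span ⟨i, rfl⟩)
    simpa [congrFun h3 i] using sub_constantCoeff_mem (c i)
  have hKX : K ≤ X₀ := hK2.trans Ideal.mul_le_left
  -- a smooth basic open containing the zero locus of `I`
  haveI : Algebra.FiniteType A B := Algebra.FiniteType.of_surjective φ hsurj
  haveI : Algebra.FinitePresentation A B := Algebra.FinitePresentation.of_finiteType.1 inferInstance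
  obtain ⟨g₀, hg₀, hsmooth⟩ : ∃ g : B, g - 1 ∈ I ∧ Algebra.Smooth A (Localization.Away g) := by
    obtain ⟨s, hs⟩ := (PrimeSpectrum.isClosed_iff_zeroLocus_ideal _).1
      (Algebra.isOpen_smoothLocus (R := A) (A := B)).isClosed_compl
    have htop : I ⊔ s = ⊤ := by
      by_contra hne
      obtain ⟨m, hm, hle⟩ := Ideal.exists_le_maximal _ hne
      have h1 : (⟨m, hm.isPrime⟩ : PrimeSpectrum B) ∈ (Algebra.smoothLocus A B)ᶜ := by
        rw [hs]; exact le_sup_right.trans hle
      exact h1 (hsm m (le_sup_left.trans hle))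
    obtain ⟨i, hi, g, hg, hig⟩ := Submodule.mem_sup.1 ((Ideal.eq_top_iff_one _).1 htop)
    refine ⟨g, ?_, Algebra.basicOpen_subset_smoothLocus_iff_smooth.1 fun P hP => ?_⟩
    · rw [show g - 1 = -i by rw [← hig]; ring]; exact I.neg_mem hi
    · by_contra hne
      have h1 : P ∈ (Algebra.smoothLocus A B)ᶜ := hne
      rw [hs] at h1
      exact hP (h1 hg)
  obtain ⟨G, rfl⟩ := hsurj g₀
  have hG : G - 1 ∈ X₀ := by
    have h1 : constantCoeff G - 1 = 0 := hI _ (by
      have := I.sub_mem hg₀ (hφC G)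
      simpa [map_sub] using this)
    have := sub_constantCoeff_mem G
    rwa [sub_eq_zero.1 h1, map_one] at this
  -- the square-zero extension
  let T := Localization.Away (Ideal.Quotient.mk (X₀ * K) G)
  let loc : MvPolynomial σ A →ₐ[A] T :=
    (IsScalarTower.toAlgHom A (MvPolynomial σ A ⧸ X₀ * K) T).comp (Ideal.Quotient.mkₐ A (X₀ * K))
  have hG' : IsUnit (loc G) := IsLocalization.Away.algebraMap_isUnit (Ideal.Quotient.mk (X₀ * K) G)
  let mkB : (MvPolynomial σ A ⧸ X₀ * K) →ₐ[A] Localization.Away (φ G) :=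
    Ideal.Quotient.liftₐ _ ((IsScalarTower.toAlgHom A B _).comp φ) fun a ha => by
      rw [AlgHom.comp_apply, show φ a = 0 from Ideal.mul_le_right (J := K) ha, map_zero]
  have hu : IsUnit (mkB (Ideal.Quotient.mk (X₀ * K) G)) := by
    change IsUnit (algebraMap B (Localization.Away (φ G)) (φ G))
    exact IsLocalization.Away.algebraMap_isUnit _
  let ψ : T →ₐ[A] Localization.Away (φ G) :=
    { (IsLocalization.Away.lift (g := mkB.toRingHom) (Ideal.Quotient.mk (X₀ * K) G) hu : T →+* _) with
      commutes' := fun a => by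
        rw [IsScalarTower.algebraMap_apply A (MvPolynomial σ A ⧸ X₀ * K) T]
        exact (IsLocalization.Away.lift_eq _ hu _).trans (mkB.commutes a) }
  have hψ : ∀ p, ψ (loc p) = algebraMap B _ (φ p) := fun p => IsLocalization.Away.lift_eq _ hu _
  have hψs : Function.Surjective ψ := fun b => by
    obtain ⟨b, ⟨_, n, rfl⟩, rfl⟩ := IsLocalization.exists_mk'_eq (Submonoid.powers (φ G)) b
    obtain ⟨p, rfl⟩ := hsurj b
    obtain ⟨v, hv⟩ := (hG'.pow n).exists_right_inv
    refine ⟨loc p * v, ?_⟩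
    rw [map_mul, hψ, IsLocalization.eq_mk'_iff_mul_eq, mul_assoc]
    change _ * (ψ v * algebraMap B _ (φ G ^ n)) = _
    rw [map_pow, ← hψ G, ← map_pow, ← map_mul, mul_comm v, hv, map_one, mul_one]
  -- elements of the kernel are killed by `X₀` and by the kernel
  have hker : ∀ k : T, ψ k = 0 → ∃ (n : ℕ) (p : MvPolynomial σ A), p ∈ K ∧ k * loc G ^ n = loc p := by
    intro k hk
    obtain ⟨⟨z, ⟨_, n, rfl⟩⟩, hz⟩ := IsLocalization.surj (Submonoid.powers (Ideal.Quotient.mk (X₀ * K) G)) k
    obtain ⟨p, rfl⟩ := Ideal.Quotient.mk_surjective z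
    have hz' : k * loc G ^ n = loc p := by simp only [map_pow] at hz; exact hz
    have h1 := congrArg ψ hz'
    rw [map_mul, hk, zero_mul, hψ] at h1
    obtain ⟨⟨_, m, rfl⟩, hm⟩ := (IsLocalization.map_eq_zero_iff (Submonoid.powers (φ G)) _ _).1 h1.symm
    refine ⟨n + m, G ^ m * p, show φ (G ^ m * p) = 0 by rw [map_mul, map_pow]; exact hm, ?_⟩
    rw [pow_add, ← mul_assoc, hz', map_mul, map_pow, mul_comm]
  have hkillX : ∀ k : T, ψ k = 0 → ∀ y ∈ X₀, loc y * k = 0 := fun k hk y hy => by
    obtain ⟨n, p, hp, hkp⟩ := hker k hk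
    refine (hG'.pow n).mul_left_eq_zero.1 ?_
    rw [mul_assoc, hkp, ← map_mul]
    change algebraMap (MvPolynomial σ A ⧸ X₀ * K) T (Ideal.Quotient.mk (X₀ * K) (y * p)) = 0
    rw [Ideal.Quotient.eq_zero_iff_mem.2 (Ideal.mul_mem_mul hy hp), map_zero]
  have hkillK : ∀ k k' : T, ψ k = 0 → ψ k' = 0 → k * k' = 0 := fun k k' hk hk' => by
    obtain ⟨n, p, hp, hkp⟩ := hker k hk
    refine (hG'.pow n).mul_left_eq_zero.1 ?_
    rw [mul_right_comm, hkp]
    exact hkillX k' hk' p (hKX hp)
  have hnil : IsNilpotent (RingHom.ker (ψ : T →+* Localization.Away (φ G))) := ⟨2, by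
    rw [pow_two]
    exact le_bot_iff.1 (Ideal.mul_le.2 fun k hk k' hk' => Ideal.mem_bot.2 (hkillK k k' hk hk'))⟩
  haveI := hsmooth.formallySmooth
  let s := (Algebra.FormallySmooth.liftOfSurjective (AlgHom.id A _) ψ hψs hnil).comp
    (IsScalarTower.toAlgHom A B (Localization.Away (φ G)))
  have hs : ∀ b, ψ (s b) = algebraMap B _ b := fun b =>
    Algebra.FormallySmooth.liftOfSurjective_apply (AlgHom.id A _) ψ hψs hnil _
  let D : MvPolynomial σ A → T := fun p => loc p - s (φ p)
  have hD : ∀ p, ψ (D p) = 0 := fun p => by rw [map_sub, hψ, hs, sub_self]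
  have hD2 : ∀ f ∈ X₀ * X₀, D f = 0 := fun f hf => by
    refine Submodule.mul_induction_on hf (fun p hp q hq => ?_) (fun p q hp hq => ?_)
    · have e : D (p * q) = loc q * D p + loc p * D q - D p * D q := by
        simp only [D, map_mul]; ring
      rw [e, hkillX _ (hD p) q hq, hkillX _ (hD q) p hp, hkillK _ _ (hD p) (hD q)]
      simp
    · have e : D (p + q) = D p + D q := by simp only [D, map_add]; ring
      rw [e, hp, hq, add_zero]
  have hKle : K ≤ X₀ • K := fun f hf => by
    have h1 := hD2 f (hK2 hf)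
    simp only [D, show φ f = 0 from hf, map_zero, sub_zero] at h1
    obtain ⟨⟨_, n, rfl⟩, hn⟩ := (IsLocalization.map_eq_zero_iff
      (Submonoid.powers (Ideal.Quotient.mk (X₀ * K) G)) T (Ideal.Quotient.mk (X₀ * K) f)).1 h1
    change Ideal.Quotient.mk (X₀ * K) G ^ n * _ = 0 at hn
    rw [← map_pow, ← map_mul, Ideal.Quotient.eq_zero_iff_mem] at hn
    have h2 : (G ^ n - 1) * f ∈ X₀ * K :=
      Ideal.mul_mem_mul (by simpa using Ideal.mem_of_dvd _ (sub_dvd_pow_sub_pow G 1 n) hG) hf
    have := (X₀ * K).sub_mem hn h2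
    rw [Ideal.smul_eq_mul]
    simpa [sub_mul] using this
  obtain ⟨e, he, hek⟩ := Submodule.exists_sub_one_mem_and_smul_eq_zero_of_fg_of_le_smul X₀ K
    (IsNoetherian.noetherian K) hKle
  rw [injective_iff_map_eq_zero]
  exact fun f hf => eq_zero_of_mul_eq_zero he (hek f hf)

end Groth.Agent.BBLib
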